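import Groth.Agent.CohExch.AffineBC0
import Groth.Agent.SGA3UnitSec.BaseChange
import Groth.Agent.HopfLib.SchemeCartier
import Groth.Agent.Et18.FlatTrace.Mult
import Groth.Agent.AbSchLib.SmoothReduced
import Groth.Agent.AmpleLib.Sections

/-!
# Direct images along isogenies pulled back are sums of translates

For a homomorphism with finite reduced kernel over an algebraically closed field the self fibre product is the
disjoint union of the graphs of the translations by the kernel points.
-/

set_option autoImplicit false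
set_option backward.isDefEq.respectTransparency.types false

universe u

open CategoryTheory CategoryTheory.Limits MonoidalCategory CartesianMonoidalCategory MonObj GrpObj AlgebraicGeometry
  Opposite TopologicalSpace
open Groth.Agent.Coherent Groth.Agent.PicLib

noncomputable section

namespace Groth.Agent.IsogTrans27

instance (priority := low) {Y : Scheme.{u}} : HasFiniteBiproducts Y.Modules := Abelian.hasFiniteBiproducts

/-- A morphism bijective on a basis is an isomorphism. -/
theorem isIso_of_bijective_basis {X : Scheme.{u}} {M N : X.Modules} (φ : M ⟶ N) (P : X.Opens → Prop)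
    (hP : ∀ (V : X.Opens) (y : X), y ∈ V → ∃ B, P B ∧ y ∈ B ∧ B ≤ V)
    (h : ∀ B, P B → Function.Bijective (φ.app B)) : IsIso φ := by
  have hinj : ∀ V : X.Opens, Function.Injective (φ.app V) := fun V a b hab => by
    choose B hB hyB hBV using fun y : V => hP V y.1 y.2
    refine TopCat.Sheaf.eq_of_locally_eq' (⟨M.presheaf, M.isSheaf⟩ : TopCat.Sheaf Ab X) B V
      (fun y => homOfLE (hBV y)) (fun y hy => Opens.mem_iSup.2 ⟨⟨y, hy⟩, hyB ⟨y, hy⟩⟩) a b fun y => (h _ (hB y)).1 ?_
    show φ.app _ (resM M (hBV y) a) = φ.app _ (resM M (hBV y) b)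
    rw [app_resM, app_resM, hab]
  refine Scheme.Modules.Hom.isIso_iff_isIso_app.mpr fun V =>
    (ConcreteCategory.isIso_iff_bijective _).mpr ⟨hinj V, fun z => ?_⟩
  choose B hB hyB hBV using fun y : V => hP V y.1 y.2
  choose w hw using fun y : V => (h (B y) (hB y)).2 (resM N (hBV y) z)
  have hle : V ≤ ⨆ y : V, B y := fun y hy => Opens.mem_iSup.2 ⟨⟨y, hy⟩, hyB ⟨y, hy⟩⟩
  obtain ⟨ρ, hρ, -⟩ := TopCat.Sheaf.existsUnique_gluing' (⟨M.presheaf, M.isSheaf⟩ : TopCat.Sheaf Ab X)
    B V (fun y => homOfLE (hBV y)) hle w fun a b => by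
      refine hinj _ ?_
      show φ.app _ (resM M inf_le_left (w a)) = φ.app _ (resM M inf_le_right (w b))
      rw [app_resM, app_resM, hw, hw, resM_resM, resM_resM]
  refine ⟨ρ, TopCat.Sheaf.eq_of_locally_eq' (⟨N.presheaf, N.isSheaf⟩ : TopCat.Sheaf Ab X) B V
    (fun y => homOfLE (hBV y)) hle _ _ fun y => ?_⟩
  show resM N (hBV y) (φ.app V ρ) = resM N (hBV y) z
  rw [← app_resM, ← hw y]
  exact congrArg _ (hρ y)

/-- A module is the sum of its restrictions to a finite disjoint open cover. -/
theorem nonempty_iso_biproduct {Y : Scheme.{u}} {J : Type u} [Finite J] {X : J → Scheme.{u}}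
    (σ : ∀ c, X c ⟶ Y) [∀ c, IsOpenImmersion (σ c)]
    (hdisj : ∀ c d, c ≠ d → Disjoint (Set.range (σ c)) (Set.range (σ d)))
    (hcov : ∀ y : Y, ∃ c, y ∈ Set.range (σ c)) (M : Y.Modules) :
    Nonempty (M ≅ ⨁ fun c => (Scheme.Modules.pushforward (σ c)).obj ((Scheme.Modules.restrictFunctor (σ c)).obj M)) := by
  classical
  haveI := Fintype.ofFinite J
  let N := fun c => (Scheme.Modules.pushforward (σ c)).obj ((Scheme.Modules.restrictFunctor (σ c)).obj M)
  let φ : M ⟶ ⨁ N := biproduct.lift fun c => (Scheme.Modules.restrictAdjunction (σ c)).unit.app M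
  suffices IsIso φ from ⟨asIso φ⟩
  refine isIso_of_bijective_basis φ (fun U => ∃ c, U ≤ (σ c).opensRange) (fun V y hy => ?_) ?_
  · obtain ⟨c, hc⟩ := hcov y
    exact ⟨V ⊓ (σ c).opensRange, ⟨c, inf_le_right⟩, ⟨hy, hc⟩, inf_le_left⟩
  rintro U ⟨c, hUc⟩
  have hsub : ∀ d, d ≠ c → Subsingleton Γ(N d, U) := fun d hd => by
    refine ⟨fun a b => AmpleLib.sec_ext M (U := σ d ''ᵁ (σ d ⁻¹ᵁ U)) a b fun z hz => ?_⟩
    obtain ⟨w, hw, rfl⟩ := hz
    exact (Set.disjoint_left.1 (hdisj d c hd) ⟨w, rfl⟩ (hUc hw)).elim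
  have hbij : Function.Bijective (((Scheme.Modules.restrictAdjunction (σ c)).unit.app M).app U) := by
    rw [Scheme.Modules.restrictAdjunction_unit_app_app]
    have h : σ c ''ᵁ (σ c ⁻¹ᵁ U) = U := by
      rw [(σ c).image_preimage_eq_opensRange_inf, inf_eq_right]
      exact hUc
    exact ConcreteCategory.bijective_of_isIso (M.presheaf.mapIso (eqToIso h).op).hom
  have hπ : Function.Bijective ((biproduct.π N c).app U) := by
    refine ⟨fun a b hab => ?_, fun z => ⟨(biproduct.ι N c).app U z, ?_⟩⟩
    · have key : ∀ x : Γ(⨁ N, U), x = ∑ d, (biproduct.ι N d).app U ((biproduct.π N d).app U x) := fun x => by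
        let ev : (⨁ N ⟶ ⨁ N) →+ Γ(⨁ N, U) := AddMonoidHom.mk' (fun ψ => ψ.app U x) fun _ _ => rfl
        have h1 := map_sum ev (fun d => biproduct.π N d ≫ biproduct.ι N d) Finset.univ
        refine Eq.trans ?_ h1
        refine Eq.trans (show x = ev (𝟙 _) from rfl) (congrArg ev ?_)
        refine (biproduct.hom_ext _ _ fun j => ?_).symm
        simp [Preadditive.sum_comp, biproduct.ι_π, comp_dite]
      rw [key a, key b]
      refine Finset.sum_congr rfl fun d _ => congrArg _ ?_
      rcases eq_or_ne d c with rfl | hd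
      · exact hab
      · exact (hsub d hd).elim _ _
    · rw [← CategoryTheory.comp_apply, ← Scheme.Modules.Hom.comp_app, biproduct.ι_π_self]
      rfl
  have hcomp : (fun x => (biproduct.π N c).app U (φ.app U x)) =
      ((Scheme.Modules.restrictAdjunction (σ c)).unit.app M).app U := funext fun x => by
    rw [← CategoryTheory.comp_apply, ← Scheme.Modules.Hom.comp_app, biproduct.lift_π]
  exact (Function.Bijective.of_comp_iff' hπ _).1 (by rw [Function.comp_def, hcomp]; exact hbij)

variable {k : Type u} [Field k] [IsAlgClosed k]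

/-- A rational point of a finite reduced scheme over an algebraically closed field is an open immersion. -/
theorem isOpenImmersion_point {Z : Scheme.{u}} (q : Z ⟶ Spec (CommRingCat.of k)) [IsFinite q] [IsReduced Z]
    (a : Spec (CommRingCat.of k) ⟶ Z) (ha : a ≫ q = 𝟙 _) : IsOpenImmersion a := by
  haveI := Et18.FlatTrace.discreteTopology_of_isFinite q
  haveI : Subsingleton ↥(Spec (CommRingCat.of k)) := inferInstanceAs (Subsingleton (PrimeSpectrum k))
  let y := a (IsLocalRing.closedPoint k)
  let U : Z.Opens := ⟨{y}, isOpen_discrete _⟩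
  have hr : Set.range a ⊆ Set.range U.ι := by
    rw [Scheme.Opens.range_ι]
    rintro _ ⟨z, rfl⟩
    exact congrArg a (Subsingleton.elim z (IsLocalRing.closedPoint k))
  let a' := IsOpenImmersion.lift U.ι a hr
  have ha' : a' ≫ U.ι = a := IsOpenImmersion.lift_fac _ _ _
  haveI : IsClosedImmersion a' :=
    isClosedImmersion_of_comp_eq_id (U.ι ≫ q) a' (by rw [← Category.assoc, ha', ha])
  haveI : Surjective a' := ⟨fun z => ⟨IsLocalRing.closedPoint k, Subtype.ext (by
    rw [show (a' (IsLocalRing.closedPoint k)).1 = (a' ≫ U.ι) (IsLocalRing.closedPoint k) from rfl, ha']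
    exact z.2.symm)⟩⟩
  haveI : IsReduced U.toScheme := isReduced_of_isOpenImmersion U.ι
  haveI := isIso_of_isClosedImmersion_of_surjective a'
  rw [← ha']
  infer_instance

local notation "𝕆" => 𝟙_ (Over (Spec (CommRingCat.of k)))

variable [CharZero k] {A B : Over (Spec (CommRingCat.of k))} [GrpObj A] [GrpObj B] (π : A ⟶ B) [IsMonHom π]

/-- The pullback of a direct image along an isogeny is the sum of the translates by the kernel. -/
theorem nonempty_iso_coprod [IsFinite π.left] [IsProper B.hom] (E : A.left.Modules) [Coh.IsQCoh E] :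
    Nonempty ((Scheme.Modules.pullback π.left).obj ((Scheme.Modules.pushforward π.left).obj E) ≅
      ∐ fun a : {a : 𝕆 ⟶ A // a ≫ π = 1} =>
        (Scheme.Modules.pullback (𝟙 A * (toUnit A ≫ a.1)).left).obj E) := by
  classical
  obtain ⟨K, _, i, _, hK⟩ := SGA3UnitSec.exists_kernel π
  have hη : ∀ {T : Over (Spec (CommRingCat.of k))}, toUnit T ≫ η[B] = (1 : T ⟶ B) := fun {T} => by
    rw [MonObj.one_eq_one B, MonObj.comp_one]
  have hi : i ≫ π = 1 := hK.w.trans hη
  have hK' : IsPullback i.left (toUnit K).left π.left η[B].left := IsPullback.map (Over.forget _) hK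
  haveI : IsFinite (toUnit K).left := MorphismProperty.of_isPullback hK' (inferInstance : IsFinite π.left)
  haveI : IsFinite K.hom := by
    rw [← Over.w (toUnit K)]
    haveI : IsIso (𝕆).hom := inferInstanceAs (IsIso (𝟙 (Spec (CommRingCat.of k))))
    infer_instance
  haveI : Smooth K.hom := HopfLib.smooth_of_grpObj (G := K)
  haveI : IsReduced K.left := AbSchLib.isReduced_of_smooth K.hom
  let g : A ⊗ K ⟶ A := fst A K * (snd A K ≫ i)
  have hg : fst A K ≫ π = g ≫ π := by
    rw [MonObj.mul_comp, Category.assoc, hi, MonObj.comp_one, _root_.mul_one]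
  have hsq : IsPullback g (fst A K) π π := by
    refine IsPullback.of_isLimit' ⟨hg.symm⟩ (PullbackCone.IsLimit.mk _ (fun s =>
      lift s.snd (hK.lift (s.snd⁻¹ * s.fst) (toUnit _) ?_)) ?_ ?_ ?_)
    · rw [MonObj.mul_comp, GrpObj.inv_comp, s.condition, inv_mul_cancel, hη]
    · intro s
      show lift _ _ ≫ (fst A K * (snd A K ≫ i)) = s.fst
      rw [MonObj.comp_mul, lift_fst, lift_snd_assoc, hK.lift_fst, mul_inv_cancel_left]
    · exact fun s => lift_fst _ _
    · intro s m h1 h2
      refine CartesianMonoidalCategory.hom_ext _ _ ?_ ?_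
      · rw [lift_fst]; exact h2
      · rw [lift_snd]
        refine hK.hom_ext ?_ (toUnit_unique _ _)
        rw [hK.lift_fst, ← h1]
        show (m ≫ snd A K) ≫ i = s.snd⁻¹ * (m ≫ (fst A K * (snd A K ≫ i)))
        rw [MonObj.comp_mul, Category.assoc, show m ≫ fst A K = s.snd from h2, inv_mul_cancel_left]
  have hsqL : IsPullback g.left (fst A K).left π.left π.left := IsPullback.map (Over.forget _) hsq
  haveI := CohExch.isIso_bc0_of_affine hsqL E
  -- the kernel points
  let κ := {a : 𝕆 ⟶ A // a ≫ π = 1}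
  let pt : κ → (𝕆 ⟶ K) := fun a => hK.lift a.1 (toUnit _) (by
    rw [a.2, hη])
  have hpt : ∀ a, pt a ≫ i = a.1 := fun a => hK.lift_fst _ _ _
  haveI hptopen : ∀ a, IsOpenImmersion (pt a).left := fun a => isOpenImmersion_point K.hom (pt a).left (Over.w (pt a))
  let σ : κ → (A ⟶ A ⊗ K) := fun a => lift (𝟙 A) (toUnit A ≫ pt a)
  have hσsq : ∀ a, IsPullback (σ a) (toUnit A) (snd A K) (pt a) := fun a => by
    refine IsPullback.of_isLimit' ⟨lift_snd _ _⟩ (PullbackCone.IsLimit.mk _ (fun s => s.fst ≫ fst A K)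
      (fun s => ?_) (fun s => toUnit_unique _ _) (fun s m h1 h2 => ?_))
    · refine CartesianMonoidalCategory.hom_ext _ _ ?_ ?_
      · rw [Category.assoc, lift_fst, Category.comp_id]
      · rw [Category.assoc, lift_snd, s.condition, ← Category.assoc]
        exact congrArg (· ≫ pt a) (toUnit_unique _ _)
    · rw [← h1, Category.assoc, lift_fst, Category.comp_id]
  have hσsqL : ∀ a, IsPullback (σ a).left (toUnit A).left (snd A K).left (pt a).left := fun a =>
    IsPullback.map (Over.forget _) (hσsq a)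
  haveI hσopen : ∀ a, IsOpenImmersion (σ a).left := fun a =>
    MorphismProperty.of_isPullback (hσsqL a).flip (hptopen a)
  haveI : Subsingleton ↥(𝕆).left := inferInstanceAs (Subsingleton (PrimeSpectrum k))
  have hptinj : ∀ a b : κ, ∀ z z', (pt a).left z = (pt b).left z' → a = b := fun a b z z' h => by
    apply Subtype.ext
    rw [← hpt a, ← hpt b]
    refine congrArg (· ≫ i) (Over.OverMorphism.ext ?_)
    refine ext_of_apply_closedPoint_eq K.hom (Over.w (pt a)) (Over.w (pt b)) ?_
    exact ((congrArg (pt a).left (Subsingleton.elim _ z)).trans h).trans (congrArg (pt b).left (Subsingleton.elim z' _))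
  have hsurj : ∀ y : K.left, ∃ a : κ, ∃ z, (pt a).left z = y := fun y => by
    haveI := Et18.FlatTrace.discreteTopology_of_isFinite K.hom
    let e : Spec (CommRingCat.of k) ⟶ K.left := pointOfClosedPoint K.hom y (isClosed_discrete _)
    let e' : 𝕆 ⟶ K := Over.homMk e (pointOfClosedPoint_comp K.hom y (isClosed_discrete _))
    refine ⟨⟨e' ≫ i, by rw [Category.assoc, hi, MonObj.comp_one]⟩, IsLocalRing.closedPoint k, ?_⟩
    have : pt ⟨e' ≫ i, by rw [Category.assoc, hi, MonObj.comp_one]⟩ = e' :=
      hK.hom_ext (hpt _) (toUnit_unique _ _)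
    rw [this]
    exact pointOfClosedPoint_apply K.hom y (isClosed_discrete _) _
  haveI : Finite κ := by
    haveI := Et18.FlatTrace.discreteTopology_of_isFinite K.hom
    haveI : IsAffine K.left := isAffine_of_isAffineHom K.hom
    haveI : Finite K.left := finite_of_compact_of_discrete
    exact Finite.of_injective (fun a => (pt a).left (IsLocalRing.closedPoint k))
      (fun a b h => hptinj a b _ _ h)
  obtain ⟨Φ⟩ := nonempty_iso_biproduct (fun a => (σ a).left)
    (fun a b hab => Set.disjoint_left.2 fun p ⟨x, hx⟩ ⟨x', hx'⟩ => hab (hptinj a b ((toUnit A).left x) ((toUnit A).left x') (by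
      rw [← Scheme.Hom.comp_apply, ← Scheme.Hom.comp_apply, ← (hσsqL a).w, ← (hσsqL b).w, Scheme.Hom.comp_apply,
        Scheme.Hom.comp_apply, hx, hx'])))
    (fun p => by
      obtain ⟨a, z, hz⟩ := hsurj ((snd A K).left p)
      obtain ⟨x, hx, -⟩ := Scheme.exists_preimage_of_isPullback (hσsqL a) p z hz.symm
      exact ⟨a, x, hx⟩)
    ((Scheme.Modules.pullback g.left).obj E)
  have hσ1 : ∀ a, (σ a).left ≫ (fst A K).left = 𝟙 A.left := fun a => congrArg CommaMorphism.left (lift_fst (𝟙 A) (toUnit A ≫ pt a))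
  have hσ2 : ∀ a, σ a ≫ g = 𝟙 A * (toUnit A ≫ a.1) := fun a => by
    show lift _ _ ≫ (fst A K * (snd A K ≫ i)) = _
    rw [MonObj.comp_mul, lift_fst, lift_snd_assoc, Category.assoc, hpt]
  haveI : PreservesBiproductsOfShape κ (Scheme.Modules.pushforward (fst A K).left) :=
    preservesBiproductsOfShape_of_preservesProductsOfShape _
  exact ⟨asIso (CohBC.bc0 π.left π.left (fst A K).left g.left hsqL.w E) ≪≫
    (Scheme.Modules.pushforward (fst A K).left).mapIso Φ ≪≫
    (Scheme.Modules.pushforward (fst A K).left).mapBiproduct _ ≪≫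
    biproduct.mapIso (fun a => (Scheme.Modules.pushforwardComp (σ a).left (fst A K).left).app _ ≪≫
      (Scheme.Modules.pushforwardCongr (hσ1 a)).app _ ≪≫ (Scheme.Modules.pushforwardId A.left).app _ ≪≫
      (Scheme.Modules.restrictFunctorIsoPullback (σ a).left).app _ ≪≫
      (Scheme.Modules.pullbackComp (σ a).left g.left).app E ≪≫
      (Scheme.Modules.pullbackCongr (congrArg CommaMorphism.left (hσ2 a))).app E) ≪≫
    biproduct.isoCoproduct _⟩

end Groth.Agent.IsogTrans27
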